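import Cfsg.Agent.H31.Sp.Tools
import Cfsg.Agent.H129.CycRow
import Cfsg.Agent.S2130
import Cfsg.Agent.OrdDiv.Main
import Cfsg.Agent.Lib.NilpotentCoprime

/-!
# The group `²E₆(2)`: centralizers of the elements of order 13 and 19, outer automorphisms (helper31)
-/

set_option autoImplicit false

namespace Cfsg.Agent.H31.SpTwE6

open Subgroup Cfsg Cfsg.Lie Cfsg.Agent.H129.CycT Cfsg.Agent.H129 Cfsg.Agent.H31.SpTools

open Cfsg.Agent.H357.Sp Cfsg.Agent.H267.Sp.SpecAlt

section cent

variable {F : Type*} [Field F] [Fintype F]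

theorem cent13 (hF : Fintype.card F = 2 ^ 2) (x : ↥(twistedE6 F 2)) (hx : orderOf x = 13) :
    Nat.card ↥(centralizer {x}) ∣ 39 := by
  have hq : IsPrimePow 2 := Nat.prime_two.isPrimePow
  have hw : Nat.Prime 13 := by norm_num
  obtain ⟨T, h1, h2, h4, h5, -⟩ := TwT.flip_T hq hF DataTE6c.hA DataTE6c.chainOK DataTE6c.hd_pi DataTE6c.cycOK
    DataTE6c.rootOK DataTE6c.chain2OK DataTE6c.hd2_eq (N := 39) (by rw [DataTE6c.fN_eq]; norm_num) (by norm_num)
  have h6 := h5 13 hw (not_dvd_W_E6 hw (by norm_num) (by norm_num) (by norm_num))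
    fun s hs => by
      rcases DataTE6c.dvd_of_G (x := ((2 : ℕ) : ℤ)) (r := 13) (by norm_num) s hs with h | h
      · exact not_one hw h
      · exact not_prime hw Nat.prime_two (by norm_num) h
  have h7 : 13 ∣ Nat.card ↥T := by
    have h8 : Nat.gcd 3 (2 + 1) = 3 := by norm_num
    rw [h8] at h4
    have h9 : 13 ∣ 3 * Nat.card ↥T := (by norm_num : 13 ∣ 39).trans h4
    exact (Nat.Coprime.dvd_of_dvd_mul_left (by norm_num) h9)
  obtain ⟨f, hf⟩ := exists_hom h1 hw h7 h6 hx
  rw [Nat.card_congr (Equiv.ofBijective f hf)]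
  exact h2

theorem cent19 (hF : Fintype.card F = 2 ^ 2) (x : ↥(twistedE6 F 2)) (hx : orderOf x = 19) :
    Nat.card ↥(centralizer {x}) = 19 := by
  have h := exact_tE6_18 (F := F) Nat.prime_two.isPrimePow hF (N := 57) (by norm_num)
  exact h.card_centralizer (by norm_num) (by norm_num) hx

end cent

theorem card_out_congr {X : Type*} {Y : Type*} [Group X] [Group Y] (e : X ≃* Y) :
    Nat.card (Cfsg.Out X) = Nat.card (Cfsg.Out Y) := by
  show (MulAut.conj : X →* MulAut X).range.index = (MulAut.conj : Y →* MulAut Y).range.index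
  have h1 : (MulAut.conj : X →* MulAut X).range.map (MulAut.congr e).toMonoidHom =
      (MulAut.conj : Y →* MulAut Y).range := by
    ext φ
    constructor
    · rintro ⟨_, ⟨g, rfl⟩, rfl⟩
      refine ⟨e g, ?_⟩
      ext y
      show e g * y * (e g)⁻¹ = e (g * e.symm y * g⁻¹)
      simp
    · rintro ⟨g, rfl⟩
      refine ⟨MulAut.conj (e.symm g), ⟨_, rfl⟩, ?_⟩
      ext y
      show e (e.symm g * e.symm y * (e.symm g)⁻¹) = g * y * g⁻¹
      simp
  rw [← h1]
  exact (Subgroup.index_map_equiv _ (MulAut.congr e)).symm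

theorem card_cent_equiv {A B : Type*} [Group A] [Group B] (e : A ≃* B) (x : A) :
    Nat.card ↥(centralizer {x}) = Nat.card ↥(centralizer {e x}) := by
  refine Nat.card_congr ⟨fun y => ⟨e y, ?_⟩, fun y => ⟨e.symm y, ?_⟩, fun y => ?_, fun y => ?_⟩
  · rw [mem_centralizer_singleton_iff, ← map_mul, ← map_mul, mem_centralizer_singleton_iff.1 y.2]
  · rw [mem_centralizer_singleton_iff]
    apply e.injective
    rw [map_mul, map_mul, e.apply_symm_apply]
    exact mem_centralizer_singleton_iff.1 y.2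
  · exact Subtype.ext (e.symm_apply_apply _)
  · exact Subtype.ext (e.apply_symm_apply _)

/-- the facts on `²E₆(2)` that are used -/
structure Facts (S : Type*) [Group S] [Finite S] : Prop where
  card : Nat.card S = 76532479683774853939200
  c13 : ∀ x : S, orderOf x = 13 → Nat.card ↥(centralizer {x}) ∣ 39
  c19 : ∀ x : S, orderOf x = 19 → Nat.card ↥(centralizer {x}) = 19
  out : Nat.card (Cfsg.Out S) = 6

theorem facts {S : Type*} [Group S] [Finite S] (hR : OrdDiv.Real (.te6 2) S)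
    (hcard : Nat.card S = 76532479683774853939200) : Facts S := by
  obtain ⟨F, _, _, hF, ⟨e⟩⟩ := hR
  have hF2 : CharP F 2 := by
    have h1 : (4 : F) = 0 := by
      have := Nat.cast_card_eq_zero F
      rw [hF] at this
      exact_mod_cast this
    have h2 : (2 : F) * 2 = 0 := by
      have h3 : (2 : F) * 2 = 4 := by norm_num
      rw [h3, h1]
    have h3 : (2 : F) = 0 := by
      rcases mul_eq_zero.1 h2 with h | h <;> exact h
    exact CharTwo.of_one_ne_zero_of_two_eq_zero one_ne_zero h3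
  refine ⟨hcard, fun x hx => ?_, fun x hx => ?_, ?_⟩
  · rw [card_cent_equiv e]
    exact cent13 hF _ (by rw [MulEquiv.orderOf_eq, hx])
  · rw [card_cent_equiv e]
    exact cent19 hF _ (by rw [MulEquiv.orderOf_eq, hx])
  · have h1 := Cfsg.Agent.S2130.result (K := F) 2 1 (by rw [hF]) le_rfl
    rw [pow_one] at h1
    rw [card_out_congr e, h1]
    norm_num

/-- **`²E₆(2)` is not the socle of `G / K`.** -/
theorem no_te6 {ε n : ℕ} (hε : ε = 0 ∨ ε = 2) (hn : n = 19 ∨ n = 20) {G : Type*} [Group G] [Finite G]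
    (h : Spec ε n G) {K : Subgroup G} [K.Normal] {S : Subgroup (G ⧸ K)} [S.Normal]
    (hc : centralizer (S : Set (G ⧸ K)) = ⊥) (hF : Facts ↥S) (h19 : ¬ 19 ∣ Nat.card ↥K)
    (hG : Nat.card G = Nat.card ↥S * (Nat.card ↥K * S.index)) : False := by
  classical
  have p19 : Nat.Prime 19 := by norm_num
  have p13 : Nat.Prime 13 := by norm_num
  have hidx : S.index ∣ 6 := hF.out ▸ index_dvd S hc
  have hWle : ∀ x : G, W (orderOf x) ≤ n := fun x => (Nat.le_add_right _ _).trans (h.up x)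
  have Wp : ∀ {p : ℕ}, p.Prime → W p = p := fun hp => by
    have := W_pow hp one_ne_zero
    rwa [pow_one] at this
  -- elements of order 19
  obtain ⟨u, hu⟩ := h.down 19 (by norm_num) (by
    rw [if_neg (by decide), Wp p19]; omega)
  have hK : Group.IsNilpotent ↥K := by
    refine isNilpotent p19 hu h19 fun v hv hvK => ?_
    rintro ⟨x, hx⟩
    have h1 := hWle x
    have hv19 : v ≠ 19 := fun h1 => h19 (h1 ▸ hvK)
    rw [hx, W_mul (by norm_num) hv.ne_zero ((Nat.coprime_primes p19 hv).2 (Ne.symm hv19)), Wp p19, Wp hv] at h1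
    have := hv.two_le
    omega
  have hi19 : ¬ 19 ∣ S.index := fun h1 => absurd (h1.trans hidx) (by norm_num)
  have hi13 : ¬ 13 ∣ S.index := fun h1 => absurd (h1.trans hidx) (by norm_num)
  have hsq : ∀ {r : ℕ}, r.Prime → ¬ r ∣ Nat.card ↥K → ¬ r ∣ S.index → ¬ r ^ 2 ∣ Nat.card ↥S →
      ¬ r ^ 2 ∣ Nat.card G := by
    intro r hr h1 h2 h3 h4
    rw [hG] at h4
    refine h3 (Nat.Coprime.dvd_of_dvd_mul_right ?_ h4)
    apply Nat.Coprime.pow_left
    rw [hr.coprime_iff_not_dvd, hr.dvd_mul]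
    rintro (h5 | h5)
    · exact h1 h5
    · exact h2 h5
  -- `13 ∤ |K|`
  have h13 : ¬ 13 ∣ Nat.card ↥K := by
    intro h13
    have hf13 : Fact (Nat.Prime 13) := ⟨p13⟩
    obtain ⟨P⟩ : Nonempty (Sylow 13 ↥K) := inferInstance
    have hPn : (P : Subgroup ↥K).Normal := by
      have h1 : ∀ (p : ℕ) (_ : Fact p.Prime) (P : Sylow p ↥K), (↑P : Subgroup ↥K).Normal :=
        ((Group.isNilpotent_of_finite_tfae (G := ↥K)).out 0 3).1 hK
      exact h1 13 hf13 P
    have hPc : (P : Subgroup ↥K).Characteristic := P.characteristic_of_normal hPn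
    have hP'n : ((P : Subgroup ↥K).map K.subtype).Normal := ConjAct.normal_of_characteristic_of_normal
    have hP' : IsPGroup 13 ↥((P : Subgroup ↥K).map K.subtype) := P.isPGroup'.map _
    have hP1 : (P : Subgroup ↥K).map K.subtype ≠ ⊥ := by
      intro h0
      rw [Subgroup.map_eq_bot_iff_of_injective _ K.subtype_injective] at h0
      have h2 := P.card_eq_multiplicity
      rw [h0, Subgroup.card_bot] at h2
      have h3 := (p13.dvd_iff_one_le_factorization Nat.card_pos.ne').1 h13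
      have h4 : 13 ^ 1 ≤ 13 ^ (Nat.card ↥K).factorization 13 := Nat.pow_le_pow_right (by norm_num) h3
      omega
    -- the image of `u`
    have huK : QuotientGroup.mk' K u ≠ 1 := by
      intro h1
      apply h19
      have h2 := (QuotientGroup.eq_one_iff u).1 h1
      have h3 := orderOf_dvd_natCard (⟨u, h2⟩ : ↥K)
      rwa [← Subgroup.orderOf_coe, hu] at h3
    have hf19 : Fact (Nat.Prime 19) := ⟨p19⟩
    have hū : orderOf (QuotientGroup.mk' K u) = 19 :=
      orderOf_eq_prime (by rw [← map_pow, ← hu, pow_orderOf_eq_one, map_one]) huK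
    have hūS : QuotientGroup.mk' K u ∈ S := mem_of_not_dvd p19 hi19 hū
    set ū : G ⧸ K := QuotientGroup.mk' K u with hūdef
    have hs : orderOf (⟨ū, hūS⟩ : ↥S) = 19 := by rw [← Subgroup.orderOf_coe]; exact hū
    have hS19 : ¬ 19 ^ 2 ∣ Nat.card ↥S := by rw [hF.card]; norm_num
    obtain ⟨e, he, -, hcS, hmod, g, hgN, hg⟩ := card_normalizer p19 hS19 hs (hF.c19 _ hs)
    have he9 : e = 9 := by
      rw [hF.card] at hcS
      have h1 : e ∣ 18 := he
      have h2 : e ≤ 18 := Nat.le_of_dvd (by norm_num) h1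
      set I := (normalizer (zpowers (⟨ū, hūS⟩ : ↥S) : Set ↥S)).index
      clear_value I
      interval_cases e <;> omega
    subst he9
    -- lift `g`
    obtain ⟨g₁, hg₁⟩ := QuotientGroup.mk'_surjective K (g : G ⧸ K)
    have hgz : ∀ k : ℤ, ∃ l : ℤ, (g : G ⧸ K) * ū ^ k * (g : G ⧸ K)⁻¹ = ū ^ l := by
      intro k
      have h1 : (⟨ū, hūS⟩ : ↥S) ^ k ∈ zpowers (⟨ū, hūS⟩ : ↥S) := ⟨k, rfl⟩
      obtain ⟨l, hl⟩ := (Subgroup.mem_normalizer_iff.1 hgN _).1 h1
      exact ⟨l, (congrArg Subtype.val hl).symm⟩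
    set J : Subgroup G := zpowers u ⊔ K with hJ
    have huJ : u ∈ J := (le_sup_left : zpowers u ≤ J) (mem_zpowers u)
    have hvJ : g₁ * u * g₁⁻¹ ∈ J := by
      obtain ⟨l, hl⟩ := hgz 1
      rw [zpow_one] at hl
      have h1 : QuotientGroup.mk' K ((u ^ l)⁻¹ * (g₁ * u * g₁⁻¹)) = 1 := by
        rw [map_mul, map_inv, map_mul, map_mul, map_inv, map_zpow, hg₁, ← hūdef, hl, inv_mul_cancel]
      have h2 : (u ^ l)⁻¹ * (g₁ * u * g₁⁻¹) ∈ K := (QuotientGroup.eq_one_iff _).1 h1
      have h3 : g₁ * u * g₁⁻¹ = u ^ l * ((u ^ l)⁻¹ * (g₁ * u * g₁⁻¹)) := by group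
      rw [h3]
      exact J.mul_mem ((le_sup_left : zpowers u ≤ J) ⟨l, rfl⟩) ((le_sup_right : K ≤ J) h2)
    have hv : orderOf (g₁ * u * g₁⁻¹) = 19 := by
      rw [← hu]
      exact orderOf_injective (MulAut.conj g₁).toMonoidHom (MulAut.conj g₁).injective u
    have hJ19 : ¬ 19 ^ 2 ∣ Nat.card ↥J := fun h1 =>
      hsq p19 h19 hi19 hS19 (h1.trans (Subgroup.card_subgroup_dvd_card J))
    obtain ⟨j, hj, hju⟩ := exists_conj p19 hJ19 hv hu hvJ huJ
    obtain ⟨i₀, hi₀⟩ : ∃ i : ℤ, QuotientGroup.mk' K j = ū ^ i := by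
      rw [hJ, Subgroup.mem_sup_of_normal_right] at hj
      obtain ⟨_, ⟨i, rfl⟩, k, hk, rfl⟩ := hj
      refine ⟨i, ?_⟩
      have hk1 : QuotientGroup.mk' K k = 1 := (QuotientGroup.eq_one_iff k).2 hk
      change QuotientGroup.mk' K (u ^ i * k) = _
      rw [map_mul, hk1, mul_one, map_zpow]
    -- `h₁ = j g₁`
    have hact₁ : ∀ m : ℕ, (j * g₁) ^ m * u = u * (j * g₁) ^ m → 9 ∣ m := by
      intro m hm
      apply hg m
      have h1 : ∀ m : ℕ, ∃ i : ℤ, QuotientGroup.mk' K ((j * g₁) ^ m) = ū ^ i * (g : G ⧸ K) ^ m := by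
        intro m
        induction m with
        | zero => exact ⟨0, by simp⟩
        | succ m ih =>
          obtain ⟨i, hi⟩ := ih
          obtain ⟨l, hl⟩ := hgz i
          refine ⟨i₀ + l, ?_⟩
          rw [pow_succ', map_mul, hi, map_mul, hi₀, hg₁, zpow_add, ← hl, pow_succ']
          group
      obtain ⟨i, hi⟩ := h1 m
      have h2 : QuotientGroup.mk' K ((j * g₁) ^ m) * ū = ū * QuotientGroup.mk' K ((j * g₁) ^ m) := by
        rw [hūdef, ← map_mul, hm, map_mul]
      rw [hi] at h2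
      have h3 : (g : G ⧸ K) ^ m * ū = ū * (g : G ⧸ K) ^ m := by
        have h4 : ū ^ i * ((g : G ⧸ K) ^ m * ū) = ū ^ i * (ū * (g : G ⧸ K) ^ m) := by
          rw [← mul_assoc, h2, ← mul_assoc, ← mul_assoc, ((Commute.refl ū).zpow_right i).eq]
        exact mul_left_cancel h4
      exact Subtype.ext h3
    -- the `3`-part
    obtain ⟨a, b, hb3, hab⟩ := Nat.exists_eq_pow_mul_and_not_dvd (orderOf_pos (j * g₁)).ne' 3 (by norm_num)
    have hb0 : b ≠ 0 := by
      rintro rfl
      exact hb3 (dvd_zero 3)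
    have ho : orderOf ((j * g₁) ^ b) = 3 ^ a := by
      rw [orderOf_pow' _ hb0, hab, Nat.gcd_eq_right (Dvd.intro_left _ rfl), Nat.mul_div_cancel _ (Nat.pos_of_ne_zero hb0)]
    have hact : ∀ m : ℕ, ((j * g₁) ^ b) ^ m * u = u * ((j * g₁) ^ b) ^ m → 9 ∣ m := by
      intro m hm
      rw [← pow_mul] at hm
      have h1 := hact₁ _ hm
      refine Nat.Coprime.dvd_of_dvd_mul_left ?_ h1
      have h2 : Nat.Coprime (3 ^ 2) b := Nat.Coprime.pow_left 2 ((Nat.prime_three.coprime_iff_not_dvd).2 hb3)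
      exact h2
    have ha2 : 9 ∣ 3 ^ a := by
      apply hact
      rw [← ho, pow_orderOf_eq_one, one_mul, mul_one]
    have ha1 : 1 ≤ a := by
      rcases Nat.eq_zero_or_pos a with rfl | h0
      · exact absurd ha2 (by norm_num)
      · exact h0
    have ha : 3 ^ a = 9 := by
      have h1 := hWle ((j * g₁) ^ b)
      rw [ho, W_pow Nat.prime_three (by omega)] at h1
      obtain ⟨k, hk⟩ := ha2
      rcases Nat.lt_or_ge a 3 with h3 | h3
      · interval_cases a
        · norm_num at hk; omega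
        · rfl
      · have h4 : 3 ^ 3 ≤ 3 ^ a := Nat.pow_le_pow_right (by norm_num) h3
        omega
    have hconj : (j * g₁) ^ b * u * ((j * g₁) ^ b)⁻¹ ∈ zpowers u := by
      have h1 : ∀ m : ℕ, (j * g₁) ^ m * u * ((j * g₁) ^ m)⁻¹ ∈ zpowers u := by
        intro m
        induction m with
        | zero => simp
        | succ m ih =>
          obtain ⟨i, hi⟩ := ih
          obtain ⟨l, hl⟩ := hju
          refine ⟨l * i, ?_⟩
          have h2 : (j * g₁) ^ (m + 1) * u * ((j * g₁) ^ (m + 1))⁻¹ =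
              (j * g₁) * ((j * g₁) ^ m * u * ((j * g₁) ^ m)⁻¹) * (j * g₁)⁻¹ := by
            rw [pow_succ', mul_inv_rev]
            simp only [mul_assoc]
          have h3 : (j * g₁) * u * (j * g₁)⁻¹ = u ^ l := by
            have h4 : u ^ l = j * (g₁ * u * g₁⁻¹) * j⁻¹ := hl
            rw [h4]; group
          have h4 : (j * g₁) * u ^ i * (j * g₁)⁻¹ = ((j * g₁) * u * (j * g₁)⁻¹) ^ i := conj_zpow.symm
          change u ^ (l * i) = _
          rw [h2, ← show u ^ i = _ from hi, h4, h3, zpow_mul]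
      exact h1 b
    obtain ⟨x, hx⟩ := frob p13 p19 (by norm_num) hP' hP1 hu hconj (ho.trans ha) (by norm_num) (by norm_num) hact (by
      rintro ⟨x, hx⟩
      have h1 := hWle x
      rw [hx, W_mul (by norm_num) (by norm_num) (by norm_num), Wp p19, Wp p13] at h1
      omega)
    have h1 := hWle x
    have h9 : W 9 = 9 := by
      have := W_pow Nat.prime_three (j := 2) (by norm_num)
      norm_num at this
      exact this
    rw [hx, W_mul (by norm_num) (by norm_num) (by norm_num), h9, Wp p13] at h1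
    omega
  -- elements commuting with an element of order 13
  have hS13 : ¬ 13 ^ 2 ∣ Nat.card ↥S := by rw [hF.card]; norm_num
  have hG13 := hsq p13 h13 hi13 hS13
  have key : ∀ (c y : G), orderOf c = 13 → Commute c y → orderOf (QuotientGroup.mk' K y) ∣ 234 := by
    intro c y hc13 hcy
    have hcK : QuotientGroup.mk' K c ≠ 1 := by
      intro h1
      apply h13
      have h2 := (QuotientGroup.eq_one_iff c).1 h1
      have h3 := orderOf_dvd_natCard (⟨c, h2⟩ : ↥K)
      rwa [← Subgroup.orderOf_coe, hc13] at h3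
    have hf13 : Fact (Nat.Prime 13) := ⟨p13⟩
    have hc' : orderOf (QuotientGroup.mk' K c) = 13 :=
      orderOf_eq_prime (by rw [← map_pow, ← hc13, pow_orderOf_eq_one, map_one]) hcK
    have hcS : QuotientGroup.mk' K c ∈ S := mem_of_not_dvd p13 hi13 hc'
    have h1 := pow_eq_one hcS (hF.c13 ⟨_, hcS⟩ (by rw [← Subgroup.orderOf_coe]; exact hc')) hidx
      (y := QuotientGroup.mk' K y) (by rw [← map_mul, ← map_mul, hcy.eq])
    exact orderOf_dvd_of_pow_eq_one h1
  have W13 : ∀ {m : ℕ}, m ≠ 0 → Nat.Coprime 13 m → W (13 * m) = 13 + W m := fun hm hc => by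
    rw [W_mul (by norm_num) hm hc, Wp p13]
  -- the element of order 65
  obtain ⟨x, hx⟩ := h.down (13 * 5) (by norm_num) (by
    rw [if_neg (by decide), W13 (by norm_num) (by norm_num), Wp Nat.prime_five]; omega)
  have ha : orderOf (x ^ 5) = 13 := by rw [orderOf_pow' _ (by norm_num), hx]; norm_num
  have hz : orderOf (x ^ 13) = 5 := by rw [orderOf_pow' _ (by norm_num), hx]; norm_num
  have haz : Commute (x ^ 5) (x ^ 13) := (Commute.refl x).pow_pow 5 13
  have hzK : x ^ 13 ∈ K := by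
    have h1 := key _ _ ha haz
    have h2 : orderOf (QuotientGroup.mk' K (x ^ 13)) ∣ 5 := by
      rw [← hz]; exact orderOf_map_dvd _ _
    have h3 := Nat.dvd_gcd h1 h2
    rw [(by norm_num : Nat.gcd 234 5 = 1), Nat.dvd_one, orderOf_eq_one_iff] at h3
    exact (QuotientGroup.eq_one_iff _).1 h3
  -- the second element
  obtain ⟨b, w, v, hb, hwK, hw, hv, hv5, hv13, hnv, hbw⟩ : ∃ (b w : G) (v : ℕ), orderOf b = 13 ∧ w ∈ K ∧ orderOf w = v ∧
      v.Prime ∧ v ≠ 5 ∧ v ≠ 13 ∧ n < 18 + v ∧ Commute b w := by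
    rcases hn with rfl | rfl
    · have h4 : W 4 = 4 := by
        have := W_pow Nat.prime_two (j := 2) (by norm_num)
        norm_num at this
        exact this
      obtain ⟨y, hy⟩ := h.down (13 * 4) (by norm_num) (by
        rw [if_pos (by decide), W13 (by norm_num) (by norm_num), h4]
        rcases hε with rfl | rfl <;> norm_num)
      have hb : orderOf (y ^ 4) = 13 := by rw [orderOf_pow' _ (by norm_num), hy]; norm_num
      have hw : orderOf (y ^ 26) = 2 := by rw [orderOf_pow' _ (by norm_num), hy]; norm_num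
      have hc4 : orderOf (y ^ 13) = 4 := by rw [orderOf_pow' _ (by norm_num), hy]; norm_num
      refine ⟨y ^ 4, y ^ 26, 2, hb, ?_, hw, Nat.prime_two, by norm_num, by norm_num, by norm_num,
        (Commute.refl y).pow_pow 4 26⟩
      have h1 := key _ (y ^ 13) hb ((Commute.refl y).pow_pow 4 13)
      have h2 : orderOf (QuotientGroup.mk' K (y ^ 13)) ∣ 4 := by
        rw [← hc4]; exact orderOf_map_dvd _ _
      have h3 := Nat.dvd_gcd h1 h2
      rw [(by norm_num : Nat.gcd 234 4 = 2), orderOf_dvd_iff_pow_eq_one, ← map_pow, ← pow_mul] at h3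
      exact (QuotientGroup.eq_one_iff _).1 h3
    · obtain ⟨y, hy⟩ := h.down (13 * 7) (by norm_num) (by
        rw [if_neg (by decide), W13 (by norm_num) (by norm_num), Wp (by norm_num)])
      have hb : orderOf (y ^ 7) = 13 := by rw [orderOf_pow' _ (by norm_num), hy]; norm_num
      have hw : orderOf (y ^ 13) = 7 := by rw [orderOf_pow' _ (by norm_num), hy]; norm_num
      refine ⟨y ^ 7, y ^ 13, 7, hb, ?_, hw, by norm_num, by norm_num, by norm_num, by norm_num,
        (Commute.refl y).pow_pow 7 13⟩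
      have h1 := key _ (y ^ 13) hb ((Commute.refl y).pow_pow 7 13)
      have h2 : orderOf (QuotientGroup.mk' K (y ^ 13)) ∣ 7 := by
        rw [← hw]; exact orderOf_map_dvd _ _
      have h3 := Nat.dvd_gcd h1 h2
      rw [(by norm_num : Nat.gcd 234 7 = 1), Nat.dvd_one, orderOf_eq_one_iff] at h3
      exact (QuotientGroup.eq_one_iff _).1 h3
  -- make them commute with the same element
  have hT13 : ¬ 13 ^ 2 ∣ Nat.card ↥(⊤ : Subgroup G) := by rwa [Subgroup.card_top]
  obtain ⟨j, -, hj⟩ := exists_conj p13 hT13 hb ha (mem_top _) (mem_top _)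
  have hb' : orderOf (j * b * j⁻¹) = 13 := by
    rw [← hb]
    exact orderOf_injective (MulAut.conj j).toMonoidHom (MulAut.conj j).injective b
  have hzp : zpowers (j * b * j⁻¹) = zpowers (x ^ 5) := by
    apply Subgroup.eq_of_le_of_card_ge (zpowers_le.2 hj)
    rw [Nat.card_zpowers, Nat.card_zpowers, ha, hb']
  have hw' : orderOf (j * w * j⁻¹) = v := by
    rw [← hw]
    exact orderOf_injective (MulAut.conj j).toMonoidHom (MulAut.conj j).injective w
  have hw'K : j * w * j⁻¹ ∈ K := (inferInstance : K.Normal).conj_mem w hwK j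
  have haw : Commute (x ^ 5) (j * w * j⁻¹) := by
    obtain ⟨i, hi⟩ : x ^ 5 ∈ zpowers (j * b * j⁻¹) := by rw [hzp]; exact mem_zpowers _
    have h1 : Commute (j * b * j⁻¹) (j * w * j⁻¹) := by
      change j * b * j⁻¹ * (j * w * j⁻¹) = j * w * j⁻¹ * (j * b * j⁻¹)
      calc j * b * j⁻¹ * (j * w * j⁻¹) = j * (b * w) * j⁻¹ := by group
        _ = j * (w * b) * j⁻¹ := by rw [hbw.eq]
        _ = _ := by group
    rw [← show (j * b * j⁻¹) ^ i = x ^ 5 from hi]
    exact h1.zpow_left i
  have hzw : Commute (x ^ 13) (j * w * j⁻¹) := by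
    have h1 : Commute (⟨x ^ 13, hzK⟩ : ↥K) ⟨j * w * j⁻¹, hw'K⟩ :=
      Cfsg.Agent.Lib.NilpotentCoprime.commute_of_coprime_orderOf (by
        rw [← Subgroup.orderOf_coe, ← Subgroup.orderOf_coe]
        change (orderOf (x ^ 13)).Coprime (orderOf (j * w * j⁻¹))
        rw [hz, hw']
        exact (Nat.coprime_primes Nat.prime_five hv).2 (Ne.symm hv5))
    exact congrArg Subtype.val h1.eq
  have hc5v : Nat.Coprime 5 v := (Nat.coprime_primes Nat.prime_five hv).2 (Ne.symm hv5)
  have h1 : orderOf (x ^ 13 * (j * w * j⁻¹)) = 5 * v := by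
    rw [hzw.orderOf_mul_eq_mul_orderOf_of_coprime (by rw [hz, hw']; exact hc5v), hz, hw']
  have hc13 : Nat.Coprime 13 (5 * v) :=
    Nat.Coprime.mul_right (by norm_num) ((Nat.coprime_primes p13 hv).2 (Ne.symm hv13))
  have h2 : orderOf (x ^ 5 * (x ^ 13 * (j * w * j⁻¹))) = 13 * (5 * v) := by
    rw [(haz.mul_right haw).orderOf_mul_eq_mul_orderOf_of_coprime (by rw [ha, h1]; exact hc13), ha, h1]
  have h3 := hWle (x ^ 5 * (x ^ 13 * (j * w * j⁻¹)))
  rw [h2, W13 (Nat.mul_ne_zero (by norm_num) hv.ne_zero) hc13, W_mul (by norm_num) hv.ne_zero hc5v,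
    Wp Nat.prime_five, Wp hv] at h3
  omega

end Cfsg.Agent.H31.SpTwE6
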