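import Cfsg.Agent.H902.Zs

/-!
# Orders of simple groups of Lie type with small prime divisors (helper31, for TEAM SPEC-ALT)

* `fDM_lt` : if all prime divisors of the order are at most `N` (`N ≥ 7`) then `f * DM X < N` (Zsigmondy);
* `ents p N` : the list of all shapes and exponents with `f * DM X < N`; `mem_ents`; `val p a` the order;
* `bad Pr K m` : certificate for a prime divisor of `m` which does not divide `Pr`;
* `cnt l m` : the number of members of `l` dividing `m`.
-/

set_option autoImplicit false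

namespace Cfsg.Agent.H31.SpCand

open Cfsg.Agent.H902.Art Finset

theorem dvd_self {X : Sh} {p f M : ℕ} (h : Real X p f M) : p ∣ M := by
  have h1 := h.P_self
  have h2 : p ∣ P p M := by
    rw [h1, ← pow_mul]
    exact dvd_pow_self p (Nat.mul_ne_zero (by have := h.hf; omega) (by have := NN_pos h; omega))
  exact h2.trans (P_dvd p M)

/-- Zsigmondy's theorem: the largest exponent is small if all prime divisors are small. -/
theorem fDM_lt {X : Sh} {p f M N : ℕ} (h : Real X p f M) (hN : 7 ≤ N) (hv : ∀ v : ℕ, v.Prime → v ∣ M → v ≤ N) :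
    f * DM X < N := by
  by_contra hcon
  push Not at hcon
  have h3 : 7 ≤ f * DM X := hN.trans hcon
  obtain ⟨r, hr, ho⟩ := Cfsg.Agent.Lib.Zsigmondy.exists_prime_orderOf (a := p) (n := f * DM X) h.hp.two_le
    (by omega) (by omega) (by omega)
  have h4 := hv r hr (h.dvd_of_order_DM hr ho (by omega))
  have hrp : ¬ r ∣ p := by
    intro hd
    have h5 : (p : ZMod r) = 0 := (ZMod.natCast_eq_zero_iff p r).2 hd
    have := Fact.mk hr
    have h6 : (p : ZMod r) ^ (f * DM X) = 1 := by rw [← ho]; exact pow_orderOf_eq_one _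
    rw [h5, zero_pow (by omega)] at h6
    exact zero_ne_one h6
  have h5 := Nat.le_of_dvd (by have := hr.two_le; omega) (Cfsg.Agent.Lib.Zsigmondy.orderOf_dvd_pred hr hrp)
  rw [ho] at h5
  omega

/-- candidates for the shapes -/
def shapes (v : ℕ) : List Sh :=
  (List.range v).map Sh.L ++ (List.range v).map Sh.C ++ (List.range v).map Sh.U ++
    (List.range v).map Sh.D ++ (List.range v).map Sh.DD ++
    [.G2, .F4, .E6, .E7, .E8, .TE6, .TD4, .Sz, .Ree, .TF4]

theorem mem_shapes {X : Sh} {p f M v : ℕ} (h : Real X p f M) (hv : DM X < v) : X ∈ shapes v := by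
  have hok := h.ok
  unfold shapes
  simp only [List.mem_append, List.mem_map, List.mem_range]
  cases X with
  | L n =>
    have h1 : n < v := hv
    simp [h1]
  | C m =>
    have h1 : 2 * m < v := hv
    have h2 : m < v := by omega
    simp [h2]
  | U n =>
    have h3 : 3 ≤ n := hok.1
    have h2 : n < v := by
      have h1 : (if Even n then 2 * (n - 1) else 2 * n) < v := hv
      split_ifs at h1 <;> omega
    simp [h2]
  | D m =>
    have h3 : 4 ≤ m := hok
    have h1 : 2 * (m - 1) < v := hv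
    have h2 : m < v := by omega
    simp [h2]
  | DD m =>
    have h3 : 4 ≤ m := hok
    have h1 : 2 * m < v := hv
    have h2 : m < v := by omega
    simp [h2]
  | _ => simp

/-- all shapes with the field exponent, `f * DM X < N` -/
def ents (p N : ℕ) : List (Sh × ℕ) :=
  (shapes N).flatMap fun X => ((List.range N).filter fun f => decide (1 ≤ f) && decide (f * DM X < N) &&
    decide (Ok X p f)).map fun f => (X, f)

/-- the order -/
def val (p : ℕ) (a : Sh × ℕ) : ℕ := (p ^ a.2) ^ NN a.1 * num a.1 (p ^ a.2) / dd a.1 (p ^ a.2)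

theorem mem_ents {X : Sh} {p f M N : ℕ} (h : Real X p f M) (hv : f * DM X < N) : (X, f) ∈ ents p N := by
  have h1 := (DM_ge h).1
  have h2 := h.hf
  unfold ents
  rw [List.mem_flatMap]
  refine ⟨X, mem_shapes h (lt_of_le_of_lt (Nat.le_mul_of_pos_left _ h2) hv), ?_⟩
  rw [List.mem_map]
  refine ⟨f, ?_, rfl⟩
  rw [List.mem_filter, List.mem_range]
  refine ⟨lt_of_le_of_lt (Nat.le_mul_of_pos_right _ (by omega)) hv, ?_⟩
  simp only [Bool.and_eq_true, decide_eq_true_eq]
  exact ⟨⟨h2, hv⟩, h.ok⟩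

theorem val_eq {X : Sh} {p f M : ℕ} (h : Real X p f M) : val p (X, f) = M := by
  unfold val
  rw [← h.eq]
  exact Nat.mul_div_cancel_left _ (Nat.pos_of_ne_zero h.dd_ne)

/-- `m` has a prime divisor which does not divide `Pr` -/
def bad (Pr K m : ℕ) : Bool :=
  !(Nat.beq (m / Nat.gcd m (Pr ^ K)) 1) && Nat.beq (Nat.gcd (m / Nat.gcd m (Pr ^ K)) Pr) 1

theorem exists_of_bad {Pr K m : ℕ} (h : bad Pr K m = true) :
    ∃ v : ℕ, v.Prime ∧ v ∣ m ∧ ¬ v ∣ Pr := by
  unfold bad at h
  simp only [Bool.and_eq_true, Bool.not_eq_true', Nat.beq_eq] at h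
  obtain ⟨h1, h2⟩ := h
  have h1' : m / Nat.gcd m (Pr ^ K) ≠ 1 := by
    intro h3
    rw [h3] at h1
    exact absurd h1 (by decide)
  obtain ⟨v, hv, hd⟩ := Nat.exists_prime_and_dvd h1'
  refine ⟨v, hv, hd.trans (Nat.div_dvd_of_dvd (Nat.gcd_dvd_left _ _)), fun h3 => ?_⟩
  have h4 : v ∣ Nat.gcd (m / Nat.gcd m (Pr ^ K)) Pr := Nat.dvd_gcd hd h3
  rw [h2] at h4
  exact hv.one_lt.ne' (Nat.dvd_one.1 h4)

/-- the number of members of `l` which divide `m` -/
def cnt (l : List ℕ) (m : ℕ) : ℕ := (l.filter fun u => Nat.beq (m % u) 0).length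

theorem cnt_eq (l : List ℕ) (m : ℕ) : cnt l m = (l.filter fun u => decide (u ∣ m)).length := by
  unfold cnt
  congr 2
  funext u
  rw [Bool.eq_iff_iff, Nat.beq_eq, decide_eq_true_eq, Nat.dvd_iff_mod_eq_zero]

/-- at most one member of `l` does not divide `m` -/
theorem cnt_ge {l : List ℕ} (hl : l.Nodup) {m : ℕ} (h : ∃ t₀ : ℕ, ∀ u ∈ l, u ≠ t₀ → u ∣ m) :
    l.length ≤ cnt l m + 1 := by
  obtain ⟨t₀, h⟩ := h
  rw [cnt_eq]
  have h1 : (l.filter fun u => decide (u ∣ m)).length + (l.filter fun u => !decide (u ∣ m)).length = l.length :=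
    (List.length_eq_length_filter_add _).symm
  have h2 : (l.filter fun u => !decide (u ∣ m)).length ≤ 1 := by
    have h3 : (l.filter fun u => !decide (u ∣ m)) ⊆ [t₀] := by
      intro u hu
      rw [List.mem_filter] at hu
      by_contra h4
      rw [List.mem_singleton] at h4
      have h5 := h u hu.1 h4
      simp [h5] at hu
    have h4 := (hl.filter (fun u => !decide (u ∣ m))).subperm h3
    exact h4.length_le
  omega

/-- **The candidates.** `ps` : all primes up to `N`, `Pr` a common multiple; `l` a list of primes, at most one of which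
does not divide the order; the exceptions satisfy `ok`. -/
theorem main {N Pr K : ℕ} (hN : 7 ≤ N) {ps l : List ℕ} (hps : ∀ v : ℕ, v.Prime → v ≤ N → v ∈ ps)
    (hPr : ∀ v ∈ ps, v ∣ Pr) (hl : l.Nodup) {ok : ℕ → Sh × ℕ → Bool}
    (chk : (ps.all fun p => (ents p N).all fun a => bad Pr K (val p a) || Nat.blt (cnt l (val p a) + 1) l.length ||
      ok p a) = true)
    {X : Sh} {p f M : ℕ} (h : Real X p f M) (hv : ∀ v : ℕ, v.Prime → v ∣ M → v ≤ N)
    (ht : ∃ t₀ : ℕ, ∀ u ∈ l, u ≠ t₀ → u ∣ M) : ok p (X, f) = true := by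
  rw [List.all_eq_true] at chk
  have h1 := chk p (hps p h.hp (hv p h.hp (dvd_self h)))
  rw [List.all_eq_true] at h1
  have h2 := h1 _ (mem_ents h (fDM_lt h hN hv))
  rw [val_eq h, Bool.or_eq_true, Bool.or_eq_true] at h2
  rcases h2 with (h2 | h2) | h2
  · obtain ⟨v, hv1, hv2, hv3⟩ := exists_of_bad h2
    exact absurd (hPr v (hps v hv1 (hv v hv1 hv2))) hv3
  · have h3 := cnt_ge hl ht
    rw [Nat.blt_eq] at h2
    omega
  · exact h2

/-- the candidates for `N = 19`, three of `11, 13, 17, 19` -/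
theorem nineteen {X : Sh} {p f M : ℕ} (h : Real X p f M) (hv : ∀ v : ℕ, v.Prime → v ∣ M → v ≤ 19)
    (ht : ∃ t₀ : ℕ, ∀ u ∈ [11, 13, 17, 19], u ≠ t₀ → u ∣ M) : X = .TE6 ∧ p = 2 ∧ f = 1 := by
  have h1 := main (N := 19) (Pr := 9699690) (K := 200) (ps := [2, 3, 5, 7, 11, 13, 17, 19]) (l := [11, 13, 17, 19])
    (ok := fun p a => Nat.beq p 2 && (match a with | (.TE6, 1) => true | _ => false)) (by norm_num)
    (by
      intro v hv hv19
      interval_cases v <;> first | decide | (exfalso; revert hv; norm_num))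
    (by decide) (by decide) (by decide +kernel) h hv ht
  simp only [Bool.and_eq_true, Nat.beq_eq] at h1
  obtain ⟨h2, h3⟩ := h1
  split at h3
  · rename_i heq
    simp only [Prod.mk.injEq] at heq
    exact ⟨heq.1, h2, heq.2⟩
  · exact absurd h3 (by decide)

end Cfsg.Agent.H31.SpCand
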