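import Mathlib
import Cfsg.Prelude.Def_KGroupFacts
import Cfsg.Agent.S0033
import Cfsg.Agent.S1545
import Cfsg.Agent.H267.Sp.SpecAlt

/-!
# Tools for groups `G` with `S ≤ G / K ≤ Aut S` (helper31)

* `index_dvd` : `|G / K : S|` divides `|Out S|`;
* `mem_of_not_dvd`, `pow_eq_one` : elements of `S`, elements commuting with an element of `S`;
* `isNilpotent` : an element of prime order acting without fixed points;
* `exists_conj` : subgroups of prime order `r`, `r² ∤ |J|`;
* `card_normalizer` : order of the normaliser of a Sylow subgroup of prime order;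
* `lift_norm` : lifting of normalising elements;
* `frob` : the action of a Frobenius group on a normal `t`-subgroup.
-/

set_option autoImplicit false

namespace Cfsg.Agent.H31.SpTools

open Subgroup

theorem index_dvd {X : Type*} [Group X] [Finite X] (S : Subgroup X) [S.Normal]
    (hc : centralizer (S : Set X) = ⊥) : S.index ∣ Nat.card (Cfsg.Out ↥S) := by
  obtain ⟨ψ, hψ⟩ : ∃ ψ : X →* Cfsg.Out ↥S, ψ = (QuotientGroup.mk' _).comp (MulAut.conjNormal (H := S)) := ⟨_, rfl⟩
  have hker : ψ.ker = S := by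
    subst hψ
    apply le_antisymm
    · intro x hx
      have h1 : QuotientGroup.mk' _ (MulAut.conjNormal (H := S) x) = (1 : Cfsg.Out ↥S) := hx
      have h2 := (QuotientGroup.eq_one_iff (MulAut.conjNormal (H := S) x)).1 h1
      obtain ⟨s, hs⟩ := h2
      have h3 : (s : X)⁻¹ * x ∈ centralizer (S : Set X) := by
        rw [Subgroup.mem_centralizer_iff]
        intro t ht
        have h4 := congrArg (fun f : MulAut ↥S => ((f ⟨t, ht⟩ : ↥S) : X)) hs
        have h5 : (s : X) * t * (s : X)⁻¹ = x * t * x⁻¹ := h4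
        calc t * ((s : X)⁻¹ * x) = (s : X)⁻¹ * (s * t * (s : X)⁻¹) * x := by group
          _ = (s : X)⁻¹ * (x * t * x⁻¹) * x := by rw [h5]
          _ = (s : X)⁻¹ * x * t := by group
      rw [hc, Subgroup.mem_bot, inv_mul_eq_one] at h3
      rw [← h3]
      exact s.2
    · intro s hs
      change QuotientGroup.mk' _ (MulAut.conjNormal (H := S) s) = (1 : Cfsg.Out ↥S)
      refine (QuotientGroup.eq_one_iff _).2 ⟨⟨s, hs⟩, ?_⟩
      ext t
      rfl
  have h1 : S.index = Nat.card ψ.range := by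
    conv_lhs => rw [← hker]
    exact Subgroup.index_ker ψ
  rw [h1]
  exact Subgroup.card_subgroup_dvd_card ψ.range

section

variable {X : Type*} [Group X] [Finite X] {S : Subgroup X} [S.Normal]

omit [Finite X] in
theorem mem_of_not_dvd {r : ℕ} (hr : r.Prime) (hS : ¬ r ∣ S.index) {x : X} (hx : orderOf x = r) : x ∈ S := by
  have h1 : (QuotientGroup.mk' S x) ^ r = 1 := by rw [← map_pow, ← hx, pow_orderOf_eq_one, map_one]
  have h2 : (QuotientGroup.mk' S x) ^ S.index = 1 := by
    rw [← map_pow]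
    exact (QuotientGroup.eq_one_iff _).2 (Subgroup.pow_index_mem S x)
  have h3 := Nat.dvd_gcd (orderOf_dvd_of_pow_eq_one h1) (orderOf_dvd_of_pow_eq_one h2)
  rw [(hr.coprime_iff_not_dvd.2 hS : Nat.gcd r S.index = 1), Nat.dvd_one, orderOf_eq_one_iff] at h3
  exact (QuotientGroup.eq_one_iff x).1 h3

omit [Finite X] in
theorem pow_eq_one {x : X} (hx : x ∈ S) {c n : ℕ} (hc : Nat.card ↥(centralizer {(⟨x, hx⟩ : ↥S)}) ∣ c)
    (hn : S.index ∣ n) {y : X} (hy : y * x = x * y) : y ^ (n * c) = 1 := by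
  obtain ⟨m, rfl⟩ := hn
  obtain ⟨d, rfl⟩ := hc
  have h1 : y ^ S.index ∈ S := Subgroup.pow_index_mem S y
  have h2 : (⟨y ^ S.index, h1⟩ : ↥S) ∈ centralizer {(⟨x, hx⟩ : ↥S)} := by
    rw [Subgroup.mem_centralizer_singleton_iff]
    apply Subtype.ext
    exact ((show Commute y x from hy).pow_left _).eq
  have h3 : (⟨y ^ S.index, h1⟩ : ↥S) ^ Nat.card ↥(centralizer {(⟨x, hx⟩ : ↥S)}) = 1 := by
    have h4 := pow_card_eq_one' (x := (⟨⟨y ^ S.index, h1⟩, h2⟩ : ↥(centralizer {(⟨x, hx⟩ : ↥S)})))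
    exact congrArg Subtype.val h4
  have h4 : (y ^ S.index) ^ Nat.card ↥(centralizer {(⟨x, hx⟩ : ↥S)}) = 1 := congrArg Subtype.val h3
  calc y ^ (S.index * m * (Nat.card ↥(centralizer {(⟨x, hx⟩ : ↥S)}) * d)) =
      ((y ^ S.index) ^ Nat.card ↥(centralizer {(⟨x, hx⟩ : ↥S)})) ^ (m * d) := by
        rw [← pow_mul, ← pow_mul]
        congr 1
        ring
    _ = 1 := by rw [h4, one_pow]

end

section

variable {G : Type*} [Group G] [Finite G]

theorem exists_mul {u k : G} {r v : ℕ} (hr : r.Prime) (hv : v.Prime) (hrv : r ≠ v) (hu : orderOf u = r)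
    (hk : v ∣ orderOf k) (hc : Commute u k) : ∃ x : G, orderOf x = r * v := by
  obtain ⟨m, hm⟩ := hk
  have hm0 : m ≠ 0 := by
    rintro rfl
    have := orderOf_pos k
    rw [hm, mul_zero] at this
    exact lt_irrefl 0 this
  have h1 : orderOf (k ^ m) = v := by
    rw [orderOf_pow' _ hm0, hm, Nat.gcd_eq_right (Dvd.intro_left v rfl), Nat.mul_div_cancel _ (Nat.pos_of_ne_zero hm0)]
  refine ⟨u * k ^ m, ?_⟩
  rw [(hc.pow_right m).orderOf_mul_eq_mul_orderOf_of_coprime (by rw [hu, h1]; exact (Nat.coprime_primes hr hv).2 hrv),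
    hu, h1]

/-- an element of prime order `r` not adjacent to the prime divisors of `|K|` -/
theorem isNilpotent {K : Subgroup G} [K.Normal] {r : ℕ} (hr : r.Prime) {u : G} (hu : orderOf u = r)
    (hrK : ¬ r ∣ Nat.card ↥K) (h : ∀ v : ℕ, v.Prime → v ∣ Nat.card ↥K → ¬ ∃ x : G, orderOf x = r * v) :
    Group.IsNilpotent ↥K := by
  have key : ∀ k : ↥K, u * k * u⁻¹ = k → k = 1 := by
    intro k hk
    by_contra hk1
    obtain ⟨v, hv, hvd⟩ := Nat.exists_prime_and_dvd (fun h1 => hk1 (orderOf_eq_one_iff.1 h1) : orderOf k ≠ 1)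
    have hvK := hvd.trans (orderOf_dvd_natCard k)
    refine h v hv hvK (exists_mul hr hv (fun h1 => hrK (h1 ▸ hvK)) hu (k := (k : G)) ?_ ?_)
    · rw [Subgroup.orderOf_coe]; exact hvd
    · exact mul_inv_eq_iff_eq_mul.1 hk
  by_cases hK : ∀ k : ↥K, k = 1
  · have : Subsingleton ↥K := ⟨fun a b => by rw [hK a, hK b]⟩
    infer_instance
  push Not at hK
  obtain ⟨k₀, hk₀⟩ := hK
  set φ : MulAut ↥K := MulAut.conjNormal u with hφ
  have hφk : ∀ k : ↥K, ((φ k : ↥K) : G) = u * k * u⁻¹ := fun k => MulAut.conjNormal_apply u k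
  refine Cfsg.Agent.S0033.result φ (fun k hk => key k ?_) r hr ?_
  · rw [← hφk]; exact congrArg Subtype.val hk
  · apply orderOf_eq_prime_iff (p := r) (hp := ⟨hr⟩) |>.2
    refine ⟨?_, fun h1 => hk₀ (key k₀ ?_)⟩
    · change φ ^ r = 1
      rw [hφ, ← map_pow, ← hu, pow_orderOf_eq_one, map_one]
    · rw [← hφk]
      have : φ k₀ = k₀ := by
        have h2 : φ = 1 := h1
        rw [h2]; rfl
      rw [this]

/-- subgroups of prime order `r` of `J`, `r² ∤ |J|`, are conjugate in `J` -/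
theorem exists_conj {J : Subgroup G} {r : ℕ} (hr : r.Prime) (hJ : ¬ r ^ 2 ∣ Nat.card ↥J) {u v : G}
    (hu : orderOf u = r) (hv : orderOf v = r) (huJ : u ∈ J) (hvJ : v ∈ J) :
    ∃ j ∈ J, j * u * j⁻¹ ∈ zpowers v := by
  have := Fact.mk hr
  have key : ∀ w : ↥J, orderOf w = r → ∃ P : Sylow r ↥J, (P : Subgroup ↥J) = zpowers w := by
    intro w hw
    have h1 : IsPGroup r ↥(zpowers w) := IsPGroup.of_card (n := 1) (by rw [Nat.card_zpowers, hw, pow_one])
    obtain ⟨P, hP⟩ := h1.exists_le_sylow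
    refine ⟨P, ?_⟩
    symm
    apply Subgroup.eq_of_le_of_card_ge hP
    rw [Nat.card_zpowers, hw, P.card_eq_multiplicity]
    have h2 : (Nat.card ↥J).factorization r < 2 := by
      rw [← not_le, ← hr.pow_dvd_iff_le_factorization Nat.card_pos.ne']
      exact hJ
    calc r ^ (Nat.card ↥J).factorization r ≤ r ^ 1 := Nat.pow_le_pow_right hr.pos (by omega)
      _ = r := pow_one r
  obtain ⟨P, hP⟩ := key ⟨u, huJ⟩ (by rw [← Subgroup.orderOf_coe]; exact hu)
  obtain ⟨Q, hQ⟩ := key ⟨v, hvJ⟩ (by rw [← Subgroup.orderOf_coe]; exact hv)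
  obtain ⟨j, hj⟩ := MulAction.exists_smul_eq ↥J P Q
  refine ⟨j, j.2, ?_⟩
  have h1 : (⟨u, huJ⟩ : ↥J) ∈ (P : Subgroup ↥J) := by rw [hP]; exact mem_zpowers _
  have h2 : j * ⟨u, huJ⟩ * j⁻¹ ∈ (Q : Subgroup ↥J) := by
    rw [← hj]
    exact ⟨_, h1, rfl⟩
  rw [hQ] at h2
  obtain ⟨i, hi⟩ := h2
  exact ⟨i, congrArg Subtype.val hi⟩

end

/-- the normaliser of a subgroup of prime order `r`, `r² ∤ |G|` -/
theorem card_normalizer {S : Type*} [Group S] [Finite S] {r c : ℕ} (hr : r.Prime) (hr2 : ¬ r ^ 2 ∣ Nat.card S) {x : S}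
    (hx : orderOf x = r) (hc : Nat.card ↥(centralizer {x}) = c) :
    ∃ e, e ∣ r - 1 ∧ Nat.card ↥(normalizer (zpowers x : Set S)) = c * e ∧
      Nat.card S = c * e * (normalizer (zpowers x : Set S)).index ∧ (normalizer (zpowers x : Set S)).index % r = 1 ∧
      ∃ g ∈ normalizer (zpowers x : Set S), ∀ i : ℕ, (g ^ i * x = x * g ^ i) → e ∣ i := by
  have := Fact.mk hr
  have hcz : (centralizer (zpowers x : Set S)) = centralizer {x} := by
    ext y
    rw [Subgroup.mem_centralizer_singleton_iff, Subgroup.mem_centralizer_iff]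
    constructor
    · intro h
      exact (h x (mem_zpowers x)).symm
    · rintro h _ ⟨i, rfl⟩
      exact ((show Commute x y from h.symm).zpow_left i).eq
  have hcyc : IsCyclic ↥(zpowers x) := inferInstance
  have hcard : Nat.card ↥(zpowers x) = r := by rw [Nat.card_zpowers, hx]
  set N := normalizer (zpowers x : Set S) with hN
  let ψ : ↥N →* MulAut ↥(zpowers x) := (zpowers x).normalizerMonoidHom
  have hker : Nat.card ↥ψ.ker = c := by
    have h1 : ψ.ker = (centralizer (zpowers x : Set S)).subgroupOf N := Subgroup.normalizerMonoidHom_ker _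
    rw [h1, hcz, ← hc]
    refine Nat.card_congr (Subgroup.subgroupOfEquivOfLe ?_).toEquiv
    rw [← hcz]
    exact Subgroup.centralizer_le_normalizer _
  have hcN : Nat.card ↥N = c * Nat.card ↥ψ.range := by
    rw [← hker, ← Subgroup.index_ker, mul_comm, Subgroup.index_mul_card]
  have haut : Nat.card (MulAut ↥(zpowers x)) = r - 1 := by
    rw [IsCyclic.card_mulAut, hcard, Nat.totient_prime hr]
  have hmc : IsCyclic (MulAut ↥(zpowers x)) := by
    have e := IsCyclic.mulAutMulEquiv ↥(zpowers x)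
    rw [hcard] at e
    have h1 : IsCyclic (ZMod r)ˣ := inferInstance
    exact isCyclic_of_surjective e.symm e.symm.surjective
  refine ⟨Nat.card ↥ψ.range, ?_, hcN, ?_, ?_, ?_⟩
  · rw [← haut]; exact Subgroup.card_subgroup_dvd_card _
  · rw [← hcN, Subgroup.card_mul_index]
  · -- Sylow
    have h1 : IsPGroup r ↥(zpowers x) := IsPGroup.of_card (n := 1) (by rw [hcard, pow_one])
    obtain ⟨P, hP⟩ := h1.exists_le_sylow
    have hPe : (P : Subgroup S) = zpowers x := by
      symm
      apply Subgroup.eq_of_le_of_card_ge hP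
      rw [hcard, P.card_eq_multiplicity]
      have h2 : (Nat.card S).factorization r < 2 := by
        rw [← not_le, ← hr.pow_dvd_iff_le_factorization Nat.card_pos.ne']
        exact hr2
      calc r ^ (Nat.card S).factorization r ≤ r ^ 1 := Nat.pow_le_pow_right hr.pos (by omega)
        _ = r := pow_one r
    have h2 := card_sylow_modEq_one r S
    rw [Sylow.card_eq_index_normalizer P] at h2
    have h3 : (normalizer ((P : Subgroup S) : Set S)).index % r = 1 % r := h2
    rw [hPe, Nat.mod_eq_of_lt hr.one_lt] at h3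
    exact h3
  · have hrc : IsCyclic ↥ψ.range := inferInstance
    obtain ⟨⟨a, g, rfl⟩, ha⟩ := hrc.exists_generator
    refine ⟨g, g.2, fun i hi => ?_⟩
    have h1 : orderOf (⟨ψ g, g, rfl⟩ : ↥ψ.range) = Nat.card ↥ψ.range := orderOf_eq_card_of_forall_mem_zpowers ha
    rw [← h1, ← Subgroup.orderOf_coe]
    apply orderOf_dvd_of_pow_eq_one
    rw [← map_pow]
    have h2 : g ^ i ∈ ψ.ker := by
      rw [show ψ.ker = (centralizer (zpowers x : Set S)).subgroupOf N from Subgroup.normalizerMonoidHom_ker _, hcz,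
        Subgroup.mem_subgroupOf, Subgroup.mem_centralizer_singleton_iff]
      exact hi
    exact h2

theorem card_sup_dvd {G : Type*} [Group G] (H N : Subgroup G) (h : H ≤ normalizer (N : Set G)) :
    Nat.card ↥(H ⊔ N) ∣ Nat.card H * Nat.card N := by
  let _ := Subgroup.normal_subgroupOf_of_le_normalizer h
  let _ := Subgroup.normal_subgroupOf_sup_of_le_normalizer h
  have e := (QuotientGroup.quotientInfEquivProdNormalizerQuotient H N h).toEquiv
  have h1 : (N.subgroupOf H).index = (N.subgroupOf (H ⊔ N)).index := Nat.card_congr e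
  have h2 := Subgroup.card_mul_index (N.subgroupOf (H ⊔ N))
  have h3 : Nat.card ↥(N.subgroupOf (H ⊔ N)) = Nat.card N :=
    Nat.card_congr (Subgroup.subgroupOfEquivOfLe le_sup_right).toEquiv
  rw [h3, ← h1] at h2
  rw [← h2, mul_comm (Nat.card H)]
  exact Nat.mul_dvd_mul_left _ (Subgroup.index_dvd_card _)

/-- a Frobenius group of order `r e` acting on a normal `t`-subgroup -/
theorem frob {G : Type*} [Group G] [Finite G] {t r e : ℕ} (ht : t.Prime) (hr : r.Prime) (htr : r ≠ t) {P : Subgroup G}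
    [P.Normal] (hP : IsPGroup t ↥P) (hP1 : P ≠ ⊥) {u h : G} (hu : orderOf u = r) (hn : h * u * h⁻¹ ∈ zpowers u)
    (hh : orderOf h = e) (he : e ≠ 1) (hte : ¬ t ∣ e) (hact : ∀ i : ℕ, h ^ i * u = u * h ^ i → e ∣ i)
    (hno : ¬ ∃ x : G, orderOf x = r * t) : ∃ x : G, orderOf x = e * t := by
  have := Fact.mk hr
  have := Fact.mk ht
  have hu1 : u ≠ 1 := by
    rintro rfl
    rw [orderOf_one] at hu
    exact hr.one_lt.ne hu
  have hpow : ∀ g ∈ zpowers h, ∃ i : ℕ, g = h ^ i := by
    intro g hg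
    rw [← mem_powers_iff_mem_zpowers] at hg
    obtain ⟨i, hi⟩ := hg
    exact ⟨i, hi.symm⟩
  have hUn : ∀ i : ℕ, ∀ w ∈ zpowers u, h ^ i * w * (h ^ i)⁻¹ ∈ zpowers u := by
    have h1 : ∀ w ∈ zpowers u, h * w * h⁻¹ ∈ zpowers u := by
      rintro _ ⟨j, rfl⟩
      have h2 : h * u ^ j * h⁻¹ = (h * u * h⁻¹) ^ j := (conj_zpow).symm
      rw [h2]
      exact zpow_mem hn j
    intro i
    induction i with
    | zero => intro w hw; simpa using hw
    | succ i ih =>
      intro w hw
      have h2 := h1 _ (ih w hw)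
      have h3 : h ^ (i + 1) * w * (h ^ (i + 1))⁻¹ = h * (h ^ i * w * (h ^ i)⁻¹) * h⁻¹ := by
        rw [pow_succ']; group
      rw [h3]
      exact h2
  have hEn : zpowers h ≤ normalizer (zpowers u : Set G) := by
    rw [Subgroup.zpowers_le, Subgroup.mem_normalizer_iff]
    intro w
    constructor
    · intro hw
      have := hUn 1 w hw
      rwa [pow_one] at this
    · intro hw
      have h1 := hUn (orderOf h - 1) _ hw
      have h2 : h ^ (orderOf h - 1) * h = 1 := by
        rw [← pow_succ, Nat.sub_add_cancel (orderOf_pos h), pow_orderOf_eq_one]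
      have h3 : h ^ (orderOf h - 1) * (h * w * h⁻¹) * (h ^ (orderOf h - 1))⁻¹ =
          (h ^ (orderOf h - 1) * h) * w * (h ^ (orderOf h - 1) * h)⁻¹ := by group
      rw [h3, h2, one_mul, inv_one, mul_one] at h1
      exact h1
  -- orders
  obtain ⟨a, ha⟩ := (IsPGroup.iff_card).1 hP
  have hsup : Nat.card ↥(zpowers u ⊔ zpowers h) ∣ e * r := by
    have h1 := card_sup_dvd (zpowers h) (zpowers u) hEn
    rw [Nat.card_zpowers, Nat.card_zpowers, hh, hu, sup_comm] at h1
    exact h1
  have hcop : Nat.Coprime (Nat.card ↥P) (Nat.card ↥(zpowers u ⊔ zpowers h)) := by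
    refine Nat.Coprime.coprime_dvd_right hsup ?_
    rw [ha]
    refine Nat.Coprime.pow_left _ ?_
    rw [ht.coprime_iff_not_dvd, ht.dvd_mul]
    rintro (h1 | h1)
    · exact hte h1
    · exact htr ((Nat.prime_dvd_prime_iff_eq ht hr).1 h1).symm
  have hS := Cfsg.Agent.S1545.result (zpowers u) (zpowers h) P (by rwa [Ne, zpowers_eq_bot])
    (by
      rw [Ne, zpowers_eq_bot]
      rintro rfl
      rw [orderOf_one] at hh
      exact he hh.symm)
    (by
      rw [eq_bot_iff]
      rintro w ⟨hw1, hw2⟩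
      obtain ⟨i, rfl⟩ := hpow w hw2
      obtain ⟨j, hj⟩ := hw1
      have h1 := hact i (by
        have h2 : h ^ i = u ^ j := hj.symm
        rw [h2]
        exact ((Commute.refl u).zpow_left j).eq)
      rw [mem_bot, ← orderOf_dvd_iff_pow_eq_one, hh]
      exact h1)
    (by
      intro g hg w hw
      obtain ⟨i, rfl⟩ := hpow g hg
      exact hUn i w hw)
    (by
      intro g hg hg1 w hw hgw
      by_contra hw1
      obtain ⟨i, rfl⟩ := hpow g hg
      have hor : orderOf w = r := by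
        have h1 : orderOf w ∣ r := by
          rw [← hu]
          exact orderOf_dvd_of_mem_zpowers hw
        rcases (Nat.dvd_prime hr).1 h1 with h2 | h2
        · exact absurd (orderOf_eq_one_iff.1 h2) hw1
        · exact h2
      have h3 : zpowers w = zpowers u := by
        apply Subgroup.eq_of_le_of_card_ge (zpowers_le.2 hw)
        rw [Nat.card_zpowers, Nat.card_zpowers, hu, hor]
      obtain ⟨j, hj⟩ : u ∈ zpowers w := by rw [h3]; exact mem_zpowers u
      have h4 := hact i (by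
        rw [← show w ^ j = u from hj]
        exact ((show Commute (h ^ i) w from hgw).zpow_right j).eq)
      apply hg1
      rw [← orderOf_dvd_iff_pow_eq_one, hh]
      exact h4)
    (fun x _ g hg => (inferInstance : P.Normal).conj_mem g hg x)
    (by
      rw [← Subgroup.card_eq_one]
      exact Nat.eq_one_of_dvd_coprimes hcop (Subgroup.card_dvd_of_le inf_le_left)
        (Subgroup.card_dvd_of_le inf_le_right))
    (by have := hP.isNilpotent; infer_instance) hcop
  have hPu : P ⊓ centralizer (zpowers u : Set G) = ⊥ := by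
    rw [eq_bot_iff]
    rintro w ⟨hw1, hw2⟩
    rw [mem_bot]
    by_contra hw3
    obtain ⟨k, hk⟩ := hP ⟨w, hw1⟩
    have hk' : w ^ t ^ k = 1 := congrArg Subtype.val hk
    obtain ⟨j, -, hj⟩ := (Nat.dvd_prime_pow ht).1 (orderOf_dvd_of_pow_eq_one hk')
    have hj0 : j ≠ 0 := by
      rintro rfl
      rw [pow_zero] at hj
      exact hw3 (orderOf_eq_one_iff.1 hj)
    refine hno (exists_mul hr ht htr hu (k := w) (hj ▸ dvd_pow_self t hj0) ?_)
    exact (mem_centralizer_iff.1 hw2) u (mem_zpowers u)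
  rw [hPu, Subgroup.card_bot, mul_one] at hS
  have hne : P ⊓ centralizer (zpowers h : Set G) ≠ ⊥ := by
    intro h1
    rw [h1, Subgroup.card_bot, one_pow] at hS
    have h2 : Nat.card ↥P = 1 := Nat.eq_one_of_mul_eq_one_left hS
    exact hP1 (Subgroup.card_eq_one.1 h2)
  obtain ⟨⟨w, hw⟩, hw1⟩ := Subgroup.ne_bot_iff_exists_ne_one.1 hne
  have hw1' : w ≠ 1 := fun h1 => hw1 (Subtype.ext h1)
  obtain ⟨k, hk⟩ := hP ⟨w, hw.1⟩
  have hk' : w ^ t ^ k = 1 := congrArg Subtype.val hk
  obtain ⟨j, -, hj⟩ := (Nat.dvd_prime_pow ht).1 (orderOf_dvd_of_pow_eq_one hk')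
  obtain ⟨j, rfl⟩ : ∃ j', j = j' + 1 := ⟨j - 1, by
    rcases Nat.eq_zero_or_pos j with h0 | h0
    · rw [h0, pow_zero] at hj
      exact absurd (orderOf_eq_one_iff.1 hj) hw1'
    · omega⟩
  have h5 : orderOf (w ^ t ^ j) = t := by
    rw [orderOf_pow' _ (pow_ne_zero _ ht.ne_zero), hj, Nat.gcd_eq_right (pow_dvd_pow t (Nat.le_succ j)), pow_succ,
      Nat.mul_div_cancel_left _ (pow_pos ht.pos j)]
  have h6 : Commute h w := (mem_centralizer_iff.1 hw.2) h (mem_zpowers h)
  refine ⟨h * w ^ t ^ j, ?_⟩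
  rw [(h6.pow_right _).orderOf_mul_eq_mul_orderOf_of_coprime (by
    rw [hh, h5]
    exact ((ht.coprime_iff_not_dvd).2 hte).symm), hh, h5]

end Cfsg.Agent.H31.SpTools
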